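import Cfsg.Agent.H326.TF.Inv
import Cfsg.Agent.H496.TwEight.PLFacts

/-!
# `²F₄(q)`, `q ≥ 8`: a product of four conjugates whose centralizer has odd order (helper326, S4324)

* `GowP P` : Gow's theorem for `P` in characteristic two;
* `exists_reg` : `g` of prime order commuting with an involution; a product of four conjugates of `g` has a
  centralizer of odd order, given `GowP` for `L4 ≅ Sz(q)` and `LO ≅ SL₂(q)`.
-/

set_option autoImplicit false
set_option linter.unusedSectionVars false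

namespace Cfsg.Agent.H326.TF

open Subgroup Cfsg
open Cfsg.Agent.SplitTwo Cfsg.Agent.SplitTwo.ZS Cfsg.Agent.TitsThree.RankTwoZ Cfsg.Agent.SplitTwo.RootSysZ
open Cfsg.Agent.KFacts.TwF4 Cfsg.Agent.KFacts.TwF4.Arc Cfsg.Agent.KFacts.TwF4.Irr Cfsg.Agent.KFacts.TwF4.Perf
open Cfsg.Agent.KFacts.TwF4.Inv Cfsg.Agent.CpAutTwF.Cent
open Cfsg.Agent.H496.TwFRad.Levi (card_L4 card_Tk4 L4_inf_Q)
open Cfsg.Agent.H42.Deg.F4 (TM TM_le_T TM_le_LO card_TM card_LO)
open Cfsg.Agent.H772.TF Cfsg.Agent.H240.BalTwF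
open Cfsg.Agent.CpAutTwF.Five (L4_comm_X4)

universe u

section Gen

/-- Gow's theorem in characteristic two -/
def GowP (P : Type*) [Group P] : Prop :=
  ∀ x y z : P, ¬ 2 ∣ Nat.card ↥(centralizer ({x} : Set P)) → ¬ 2 ∣ Nat.card ↥(centralizer ({y} : Set P)) → z ≠ 1 →
    ¬ 2 ∣ orderOf z → ∃ g h : P, g * x * g⁻¹ * (h * y * h⁻¹) = z

theorem odd_centralizer {G : Type*} [Group G] [Finite G] {x : G}
    (h : ∀ t : G, t * t = 1 → x * t = t * x → t = 1) : ¬ 2 ∣ Nat.card ↥(centralizer ({x} : Set G)) := by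
  intro hd
  have : Fact (Nat.Prime 2) := ⟨Nat.prime_two⟩
  obtain ⟨⟨t, htc⟩, ht⟩ := exists_prime_orderOf_dvd_card' 2 hd
  rw [Subgroup.orderOf_mk] at ht
  have h1 := h t (by rw [← pow_two, ← ht, pow_orderOf_eq_one]) (mem_centralizer_singleton_iff.1 htc).symm
  rw [h1, orderOf_one] at ht
  omega

theorem comm_of_mul {G : Type*} [Group G] {a b t : G} (hab : Commute a b) (hc : (orderOf a).Coprime (orderOf b))
    (ht : Commute (a * b) t) : Commute a t := by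
  obtain ⟨k, hk1, hk2⟩ := Nat.chineseRemainder hc 1 0
  have h1 : (a * b) ^ k = a := by
    rw [hab.mul_pow, (pow_eq_pow_iff_modEq (x := a)).2 hk1, (pow_eq_pow_iff_modEq (x := b)).2 hk2, pow_one, pow_zero,
      mul_one]
  rw [← h1]
  exact ht.pow_left k

/-- a product of two conjugates -/
def Two {G : Type*} [Group G] (g h : G) : Prop := ∃ a b : G, a * g * a⁻¹ * (b * g * b⁻¹) = h

theorem Two.cj {G : Type*} [Group G] {g h : G} (H : Two g h) (k : G) : Two g (k * h * k⁻¹) := by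
  obtain ⟨a, b, rfl⟩ := H
  exact ⟨k * a, k * b, by group⟩

theorem Two.of_cj {G : Type*} [Group G] {g h k : G} (H : Two (k * g * k⁻¹) h) : Two g h := by
  obtain ⟨a, b, rfl⟩ := H
  exact ⟨a * k, b * k, by group⟩

/-- conjugate involutions -/
theorem Two.of_inv {G : Type*} [Group G] {g i j : G} (hi : ∃ k : G, k * g * k⁻¹ = i) (hj : ∃ k : G, k * g * k⁻¹ = j) :
    Two g (i * j) := by
  obtain ⟨a, rfl⟩ := hi
  obtain ⟨b, rfl⟩ := hj
  exact ⟨a, b, rfl⟩

/-- an element which is inverted by an involution is a product of two involutions -/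
theorem exists_inv {G : Type*} [Group G] {P : Subgroup G} {n h : G} (hn : n ∈ P) (hh : h ∈ P) (hnn : n * n = 1)
    (hinv : n * h * n⁻¹ = h⁻¹) (hodd : ¬ 2 ∣ orderOf h) (hh1 : h ≠ 1) :
    ∃ i ∈ P, ∃ j ∈ P, i * i = 1 ∧ i ≠ 1 ∧ j * j = 1 ∧ j ≠ 1 ∧ h = i * j := by
  have hn' : n⁻¹ = n := inv_eq_of_mul_eq_one_left hnn
  have hsq : h * h ≠ 1 := by
    intro h2
    have h3 := orderOf_dvd_of_pow_eq_one (x := h) (n := 2) (by rw [pow_two, h2])
    rcases (Nat.dvd_prime Nat.prime_two).1 h3 with h4 | h4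
    · exact hh1 (orderOf_eq_one_iff.1 h4)
    · exact hodd (by rw [h4])
  refine ⟨n, hn, n * h, mul_mem hn hh, hnn, ?_, ?_, ?_, ?_⟩
  · rintro rfl
    rw [one_mul, inv_one, mul_one] at hinv
    apply hsq
    nth_rw 1 [hinv]
    exact inv_mul_cancel h
  · rw [hn'] at hinv
    calc n * h * (n * h) = n * h * n * h := by group
      _ = 1 := by rw [hinv, inv_mul_cancel]
  · intro h1
    have h2 : h = n := by
      rw [← hn']
      exact (inv_eq_of_mul_eq_one_right h1).symm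
    apply hsq
    rw [h2, hnn]
  · rw [← mul_assoc, hnn, one_mul]

end Gen

section sys

variable {F : Type*} [Field F] {σ : F →+* F} {G : Type u} [Group G] (S : Full σ G) [Finite F] [Finite G]

theorem conj_of_conj {x y z : G} (h1 : ∃ k : G, k * x * k⁻¹ = z) (h2 : ∃ k : G, k * y * k⁻¹ = z) :
    ∃ k : G, k * x * k⁻¹ = y := by
  obtain ⟨a, rfl⟩ := h1
  obtain ⟨b, hb⟩ := h2
  refine ⟨b⁻¹ * a, ?_⟩
  calc b⁻¹ * a * x * (b⁻¹ * a)⁻¹ = b⁻¹ * (a * x * a⁻¹) * b := by group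
    _ = y := by rw [← hb]; group

/-- the involutions of `L4` are conjugate -/
theorem conj_invZ (hF : ∃ c : Fˣ, c ≠ 1) (hR : S.R.p = 2) (hev : Even (Nat.card F)) {i : G} (hi : i ∈ L4 S)
    (hi2 : i * i = 1) (hi1 : i ≠ 1) : ∃ k : G, k * i * k⁻¹ = S.e 4 0 1 := by
  obtain ⟨g, -, u, hu⟩ := H496.TwEight.PLFacts.inv_L4 S hR hF hev hi hi2
  have hu0 : u ≠ 0 := by
    rintro rfl
    rw [S.e_zero] at hu
    apply hi1
    have e : i = g⁻¹ * (g * i * g⁻¹) * g := by group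
    rw [e, hu]
    group
  obtain ⟨t, -, ht⟩ := H136.TwF.T_trans_z S 4 hu0 (one_ne_zero (α := F))
  refine ⟨t * g, ?_⟩
  rw [← ht, ← hu]
  group

/-- the involutions of `LO` are conjugate -/
theorem conj_invO {m : ℕ} (hm : 1 ≤ m) (hFc : Nat.card F = 2 ^ (2 * m + 1)) (hR : S.R.p = 2) {i : G} (hi : i ∈ S.LO)
    (hi2 : i * i = 1) (hi1 : i ≠ 1) : ∃ k : G, k * i * k⁻¹ = S.o 2 1 := by
  have hF := unit_of_card (F := F) hm hFc
  have hmod := mod15 m
  rw [← hFc] at hmod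
  rcases inv_cases S hF hR hi2 hi1 with ⟨k, u, hu, hk⟩ | ⟨k, s, hs, hk⟩
  · exfalso
    have hz1 : S.e 2 0 u ≠ 1 := fun h => hu (S.e_eq_one h).2
    have h1 : k * e3b S * k⁻¹ ∈ S.PL := by
      rw [← S.centralizer_z (z := S.e 2 0 u) ⟨u, rfl⟩ hz1, Subgroup.mem_centralizer_singleton_iff, ← hk]
      exact comm_cj (comm_M5 S hi (e3b_mem S)).symm k
    have ho : orderOf (e3b S) = 3 := by
      have h3 : Fact (Nat.Prime 3) := ⟨Nat.prime_three⟩
      refine orderOf_eq_prime (e3b_pow S) ?_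
      intro h
      apply e3_ne S
      have h4 : S.ck 2 (e3 S) = 1 := h
      rwa [map_eq_one_iff _ (S.ck 2).injective] at h4
    have h8 := orderOf_dvd_natCard (⟨_, h1⟩ : S.PL)
    rw [Subgroup.orderOf_mk, orderOf_cj, ho, card_PL S hF] at h8
    exact not_three hmod one_le_card 12 h8
  · obtain ⟨t, -, ht⟩ := H136.TwF.T_trans_o S 2 hs (one_ne_zero (α := F))
    refine ⟨t * k, ?_⟩
    rw [← ht, ← hk]
    group

theorem odd_of_prime {g : G} (hg : (orderOf g).Prime) (h2 : orderOf g ≠ 2) : ¬ 2 ∣ orderOf g := fun h =>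
  h2 ((Nat.prime_dvd_prime_iff_eq Nat.prime_two hg).1 h).symm

/-- products of two conjugates of `g ∈ L4` -/
theorem twoZ (gow : GowP ↥(L4 S)) (hF : ∃ c : Fˣ, c ≠ 1) (hR : S.R.p = 2) (hev : Even (Nat.card F)) {g h i j : G}
    (hg : g ∈ L4 S) (hgp : (orderOf g).Prime) (hi : i ∈ L4 S) (hj : j ∈ L4 S) (hi2 : i * i = 1) (hi1 : i ≠ 1)
    (hj2 : j * j = 1) (hj1 : j ≠ 1) (hh : h = i * j) (hh1 : h ≠ 1) (hodd : ¬ 2 ∣ orderOf h) : Two g h := by
  by_cases hp2 : orderOf g = 2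
  · have hgg : g * g = 1 := by rw [← pow_two, ← hp2, pow_orderOf_eq_one]
    have hg1 : g ≠ 1 := by
      rintro rfl
      rw [orderOf_one] at hp2
      omega
    have h1 := conj_invZ S hF hR hev hg hgg hg1
    rw [hh]
    exact Two.of_inv (conj_of_conj h1 (conj_invZ S hF hR hev hi hi2 hi1)) (conj_of_conj h1 (conj_invZ S hF hR hev hj hj2 hj1))
  · have hc : ¬ 2 ∣ Nat.card ↥(centralizer ({(⟨g, hg⟩ : L4 S)} : Set (L4 S))) := by
      refine odd_centralizer fun t ht htc => ?_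
      apply Subtype.ext
      exact L4_cent_odd S hR hF hev hgp hp2 hg t.2 rfl (congrArg Subtype.val ht) (congrArg Subtype.val htc)
    have hhL : h ∈ L4 S := by rw [hh]; exact mul_mem hi hj
    obtain ⟨a, b, hab⟩ := gow ⟨g, hg⟩ ⟨g, hg⟩ ⟨h, hhL⟩ hc hc (fun h => hh1 (congrArg Subtype.val h)) (by
      rwa [Subgroup.orderOf_mk])
    exact ⟨a, b, congrArg Subtype.val hab⟩

/-- products of two conjugates of `g ∈ LO` -/
theorem twoO (gow : GowP ↥S.LO) {m : ℕ} (hm : 1 ≤ m) (hFc : Nat.card F = 2 ^ (2 * m + 1)) (hR : S.R.p = 2) {g h i j : G}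
    (hg : g ∈ S.LO) (hgp : (orderOf g).Prime) (hi : i ∈ S.LO) (hj : j ∈ S.LO) (hi2 : i * i = 1) (hi1 : i ≠ 1)
    (hj2 : j * j = 1) (hj1 : j ≠ 1) (hh : h = i * j) (hh1 : h ≠ 1) (hodd : ¬ 2 ∣ orderOf h) : Two g h := by
  by_cases hp2 : orderOf g = 2
  · have hgg : g * g = 1 := by rw [← pow_two, ← hp2, pow_orderOf_eq_one]
    have hg1 : g ≠ 1 := by
      rintro rfl
      rw [orderOf_one] at hp2
      omega
    have h1 := conj_invO S hm hFc hR hg hgg hg1
    rw [hh]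
    exact Two.of_inv (conj_of_conj h1 (conj_invO S hm hFc hR hi hi2 hi1)) (conj_of_conj h1 (conj_invO S hm hFc hR hj hj2 hj1))
  · have hc : ¬ 2 ∣ Nat.card ↥(centralizer ({(⟨g, hg⟩ : S.LO)} : Set S.LO)) := by
      refine odd_centralizer fun t ht htc => ?_
      by_contra ht1
      have h1 := LO_sq S t.2 hg (congrArg Subtype.val htc).symm (fun h => ht1 (Subtype.ext h)) (congrArg Subtype.val ht)
      have h2 := orderOf_dvd_of_pow_eq_one (x := g) (n := 2) (by rw [pow_two, h1])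
      rcases (Nat.dvd_prime Nat.prime_two).1 h2 with h4 | h4
      · exact hgp.one_lt.ne' h4
      · exact hp2 h4
    have hhL : h ∈ S.LO := by rw [hh]; exact mul_mem hi hj
    obtain ⟨a, b, hab⟩ := gow ⟨g, hg⟩ ⟨g, hg⟩ ⟨h, hhL⟩ hc hc (fun h => hh1 (congrArg Subtype.val h)) (by
      rwa [Subgroup.orderOf_mk])
    exact ⟨a, b, congrArg Subtype.val hab⟩

/-- the element of order five of `L4` -/
theorem five_pow : (S.e 4 0 1 * S.e 0 0 1) ^ 5 = 1 := by
  set A := S.e 4 0 1 with hA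
  set B := S.e 0 0 1 with hB
  have hAA : A * A = 1 := z_sq S 4 1
  have hBB : B * B = 1 := z_sq S 0 1
  have h1 : S.n2 * A = B * S.n2 := by
    have h := S.n2_e 4 0 1
    rw [sub_self, mul_inv_eq_iff_eq_mul] at h
    exact h
  rw [n2_eq_Z S, ← hA, ← hB] at h1
  -- `ABABA A = B ABABA`
  have h2 : A * B * A * B = B * (A * B * A * B * A) := by
    calc A * B * A * B = A * B * A * B * (A * A) := by rw [hAA, mul_one]
      _ = A * B * A * B * A * A := by group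
      _ = _ := h1
  calc (A * B) ^ 5 = (A * B * A * B) * (A * B * A * B * A) * B := by
        simp only [pow_succ, pow_zero, one_mul, mul_assoc]
    _ = (B * (A * B * A * B * A)) * (A * B * A * B * A) * B := by rw [← h2]
    _ = B * (A * (B * (A * (B * (A * A) * B) * A) * B) * A) * B := by group
    _ = 1 := by simp [hAA, hBB]

theorem five_ne : S.e 4 0 1 * S.e 0 0 1 ≠ 1 := by
  intro h
  have h1 : S.e 4 0 1 = S.e 0 0 1 := by
    have h2 : S.e 4 0 1 = (S.e 0 0 1)⁻¹ := eq_inv_of_mul_eq_one_left h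
    rw [h2]
    exact inv_eq_of_mul_eq_one_left (z_sq S 0 1)
  have h0 : S.e 0 0 1 ∈ S.XZ 0 := (mem_X0 S).2 ⟨0, 1, rfl⟩
  have h8 : S.e 4 0 1 ∈ S.XZ (0 + 8) := by
    rw [zero_add]
    exact (mem_X8 S).2 ⟨0, 1, rfl⟩
  have h3 := S.X_inf_opp h0 (by rw [← h1]; exact h8)
  exact one_ne_zero (S.e_eq_one h3).2

theorem orderOf_five : orderOf (S.e 4 0 1 * S.e 0 0 1) = 5 := by
  have : Fact (Nat.Prime 5) := ⟨Nat.prime_five⟩
  exact orderOf_eq_prime (five_pow S) (five_ne S)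

theorem orderOf_e3 : orderOf (e3 S) = 3 := by
  have : Fact (Nat.Prime 3) := ⟨Nat.prime_three⟩
  exact orderOf_eq_prime (e3_pow S) (e3_ne S)

theorem orderOf_h {r : ℕ} {c d : Fˣ} (hr : r.Prime) (hc : c ^ r = 1) (hd : d ^ r = 1) (h1 : d ≠ 1) :
    orderOf (S.h c d) = r := by
  have : Fact r.Prime := ⟨hr⟩
  have hpow : ∀ n : ℕ, S.h c d ^ n = S.h (c ^ n) (d ^ n) := by
    intro n
    induction n with
    | zero => rw [pow_zero, pow_zero, pow_zero, S.h_one]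
    | succ n ih => rw [pow_succ, ih, S.h_mul, pow_succ, pow_succ]
  refine orderOf_eq_prime (by rw [hpow, hc, hd, S.h_one]) ?_
  intro h
  rw [← S.h_one] at h
  exact h1 (S.h_inj _ _ _ _ h).2

/-- **Four conjugates of `g` give an element whose centralizer has odd order.** -/
theorem exists_reg {m : ℕ} (hm : 1 ≤ m) (hFc : Nat.card F = 2 ^ (2 * m + 1)) (hR : S.R.p = 2) (gowZ : GowP ↥(L4 S))
    (gowO : GowP ↥S.LO) {g t : G} (hg : (orderOf g).Prime) (ht : t * t = 1) (ht1 : t ≠ 1) (hgt : g * t = t * g) :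
    ∃ x y : G, Two g x ∧ Two g y ∧ ¬ 2 ∣ Nat.card ↥(centralizer ({x * y} : Set G)) := by
  have hF := unit_of_card (F := F) hm hFc
  have hev := even_of_card (F := F) hFc
  obtain ⟨r, c, hr, hcr, hc1⟩ := exists_prime_unit hF
  have hr2 := ne_two S hcr hc1
  have hrq : r ∣ Nat.card F - 1 := by
    have : Fact r.Prime := ⟨hr⟩
    rw [← orderOf_eq_prime hcr hc1, ← Nat.card_units]
    exact orderOf_dvd_natCard c
  have hrodd : ¬ 2 ∣ r := fun h => hr2 ((Nat.prime_dvd_prime_iff_eq Nat.prime_two hr).1 h).symm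
  have hmod := mod15 m
  rw [← hFc] at hmod
  obtain ⟨k, hk | hk⟩ := exists_levi S hF hR hFc ht ht1 hg hgt
  · -- `L4 × M4`
    have hgp : (orderOf (k * g * k⁻¹)).Prime := by rwa [orderOf_cj]
    obtain ⟨h1, h1d⟩ : ∃ h1, h1 = S.h (Units.map (σ : F →* F) c) c := ⟨_, rfl⟩
    have h1L : h1 ∈ L4 S := by rw [h1d]; exact h_mem_L4 S c
    have h1o : orderOf h1 = r := by
      rw [h1d]
      exact orderOf_h S hr (by rw [← map_pow, hcr, map_one]) hcr hc1
    have h11 : h1 ≠ 1 := by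
      intro h
      rw [h, orderOf_one] at h1o
      exact hr.one_lt.ne h1o
    have h1T : h1 ∈ S.Tk 4 := by
      refine ⟨by rw [h1d]; exact S.mem_T.2 ⟨_, _, rfl⟩, mem_centralizer_iff.2 fun y hy => ?_⟩
      exact (L4_comm_X4 S h1L hy).symm
    obtain ⟨i, hi, j, hj, hi2, hi1, hj2, hj1, hij⟩ := exists_inv (n2_mem_L4 S) h1L S.n2_sq (S.n2_Tk h1T)
      (by rwa [h1o]) h11
    have T1 := (twoZ S gowZ hF hR hev hk hgp hi hj hi2 hi1 hj2 hj1 hij h11 (by rwa [h1o])).of_cj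
    have e4L : S.e 4 0 1 ∈ L4 S := X8_L4 S ((mem_X8 S).2 ⟨0, 1, rfl⟩)
    have e0L : S.e 0 0 1 ∈ L4 S := X0_L4 S ((mem_X0 S).2 ⟨0, 1, rfl⟩)
    have T2 := (twoZ S gowZ hF hR hev hk hgp e4L e0L (z_sq S 4 1) (fun h => one_ne_zero (S.e_eq_one h).2)
      (z_sq S 0 1) (fun h => one_ne_zero (S.e_eq_one h).2) rfl (five_ne S)
      (by rw [orderOf_five]; norm_num)).of_cj
    refine ⟨h1, _, T1, T2.cj (S.rot ^ (2 : ℤ)), ?_⟩
    obtain ⟨h2, h2d⟩ : ∃ h2, h2 = S.rot ^ (2 : ℤ) * (S.e 4 0 1 * S.e 0 0 1) * (S.rot ^ (2 : ℤ))⁻¹ := ⟨_, rfl⟩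
    rw [← h2d]
    have h2M : h2 ∈ M4 S := by
      rw [h2d, ← map_L4 S]
      exact ⟨_, mul_mem e4L e0L, rfl⟩
    have h12 : h1 * h2 = h2 * h1 := L4_comm_M4 S h1L h2M
    have h2o : orderOf h2 = 5 := by rw [h2d, orderOf_cj, orderOf_five]
    have hcop : (orderOf h1).Coprime (orderOf h2) := by
      rw [h1o, h2o, Nat.coprime_primes hr Nat.prime_five]
      rintro rfl
      exact not_five' hmod hrq
    refine odd_centralizer fun t ht htc => ?_
    have c1 : Commute h1 t := comm_of_mul h12 hcop htc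
    have c2 : Commute h2 t := comm_of_mul (a := h2) (b := h1) h12.symm hcop.symm (by rw [← h12]; exact htc)
    exact regZ S hm hFc hR hr hr2 hrq h1o h2o h12 ht c1 c2
  · -- `LO × M5`
    have hgp : (orderOf (k * g * k⁻¹)).Prime := by rwa [orderOf_cj]
    obtain ⟨h1, h1d⟩ : ∃ h1, h1 = S.h c c := ⟨_, rfl⟩
    have h1L : h1 ∈ S.LO := by rw [h1d]; exact S.h_mem_LO c
    have h1o : orderOf h1 = r := by
      rw [h1d]
      exact orderOf_h S hr hcr hcr hc1
    have h11 : h1 ≠ 1 := by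
      intro h
      rw [h, orderOf_one] at h1o
      exact hr.one_lt.ne h1o
    obtain ⟨i, hi, j, hj, hi2, hi1, hj2, hj1, hij⟩ := exists_inv S.n1_mem_LO h1L S.n1_sq (by
      rw [h1d, S.n1_h, S.h_inv]) (by rwa [h1o]) h11
    have T1 := (twoO S gowO hm hFc hR hk hgp hi hj hi2 hi1 hj2 hj1 hij h11 (by rwa [h1o])).of_cj
    have o0L : S.o 0 1 ∈ S.LO := mem_sup_left (S.mX1 1)
    have o4L : S.o 4 1 ∈ S.LO := mem_sup_right (S.mX9 1)
    have T2 := (twoO S gowO hm hFc hR hk hgp o0L o4L (o_sq S 0 1) (fun h => one_ne_zero (S.o_eq_one h))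
      (o_sq S 4 1) (fun h => one_ne_zero (S.o_eq_one h)) (rfl : e3 S = _) (e3_ne S)
      (by rw [orderOf_e3]; norm_num)).of_cj
    refine ⟨h1, _, T1, T2.cj (S.rot ^ (2 : ℤ)), ?_⟩
    obtain ⟨h2, h2d⟩ : ∃ h2, h2 = S.rot ^ (2 : ℤ) * e3 S * (S.rot ^ (2 : ℤ))⁻¹ := ⟨_, rfl⟩
    rw [← h2d]
    have h2M : h2 ∈ M5 S := by
      rw [h2d]
      exact ck_LO S (e3_mem S)
    have h12 : h1 * h2 = h2 * h1 := comm_M5 S h1L h2M
    have h2o : orderOf h2 = 3 := by rw [h2d, orderOf_cj, orderOf_e3]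
    have hcop : (orderOf h1).Coprime (orderOf h2) := by
      rw [h1o, h2o, Nat.coprime_primes hr Nat.prime_three]
      rintro rfl
      exact not_three' hmod hrq
    refine odd_centralizer fun t ht htc => ?_
    have c1 : Commute h1 t := comm_of_mul h12 hcop htc
    have c2 : Commute h2 t := comm_of_mul (a := h2) (b := h1) h12.symm hcop.symm (by rw [← h12]; exact htc)
    exact regO S hm hFc hR hr hr2 hrq h1o h2o h12 ht c1 c2

end sys

end Cfsg.Agent.H326.TF
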