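import Cfsg.Agent.H955.Pi.Gow
import Cfsg.Agent.H84.SzLevi
import Cfsg.Agent.H326.TF.Reg

/-!
# `²F₄(q)`, `q ≥ 8`: inner automorphisms of prime order (helper326, S4324)

* `inner_false` : eight conjugates of an inner automorphism of prime order generate a group containing an element of
  order `s`.
-/

set_option autoImplicit false
set_option linter.unusedSectionVars false

namespace Cfsg.Agent.H326.TF

open Subgroup Cfsg
open Cfsg.Agent.SplitTwo Cfsg.Agent.SplitTwo.ZS Cfsg.Agent.TitsThree.RankTwoZ Cfsg.Agent.SplitTwo.RootSysZ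
open Cfsg.Agent.KFacts.TwF4 Cfsg.Agent.KFacts.TwF4.Arc Cfsg.Agent.KFacts.TwF4.Irr Cfsg.Agent.KFacts.TwF4.Perf
open Cfsg.Agent.H240.BalTwF

section sys

variable {F : Type} [Field F] {σ : F →+* F} {G : Type} [Group G] (S : Full σ G) [Finite F] [Finite G]

theorem gow_of_lie {P : Type} [Group P] [Finite P] (hP : IsLieTypeChar 2 P) : GowP P :=
  fun _ _ _ hx hy hz hzr => H330.Gow.gow Nat.prime_two hP hx hy hz hzr

theorem lie_L4 {k : ℕ} (hk : 2 ≤ k) (hF : Nat.card F = 2 ^ k) : IsLieTypeChar 2 ↥(L4 S) := by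
  have h1 := H84.GaussTwF4.LL_iso S hk hF
  rw [H84.GaussTwF4.LJ_eq] at h1
  have h2 : H84.GaussTwF4.LL S = L4 S := sup_comm _ _
  rw [h2] at h1
  exact Or.inr (Or.inr (Or.inr (Or.inr (Or.inr (Or.inr (Or.inr (Or.inr (Or.inl ⟨rfl, h1⟩))))))))

theorem lie_LO (h4 : 4 ≤ Nat.card F) : IsLieTypeChar 2 ↥S.LO := by
  have hc2 : CharP F 2 := CharTwo.of_one_ne_zero_of_two_eq_zero one_ne_zero S.two
  have hfF : Fintype F := Fintype.ofFinite F
  obtain ⟨e1⟩ := Cfsg.Agent.H240.BalTwF.nonempty_LO S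
  obtain ⟨e2⟩ := Cfsg.Agent.WeakTI.PslTwo.nonempty_equiv (F := F)
  left
  exact ⟨F, inferInstance, hfF, hc2, 2, le_rfl, fun _ => by rw [← Nat.card_eq_fintype_card]; exact h4,
    ⟨e1.trans e2⟩⟩

/-- a product of two conjugates of `g` lies in a group generated by two conjugates of `conj g` -/
theorem inC_two {g x : G} (h : Two g x) : H216.Pi.InC 2 (MulAut.conj g : MulAut G) (MulAut.conj x) := by
  obtain ⟨a, b, rfl⟩ := h
  rw [map_mul, ← H216.Pi.cj_conj, ← H216.Pi.cj_conj]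
  exact (H216.Pi.InC.cj_self _ a).mul (H216.Pi.InC.cj_self _ b)

theorem inner_false_sys {m : ℕ} (hm : 1 ≤ m) (hFc : Nat.card F = 2 ^ (2 * m + 1)) (hR : S.R.p = 2)
    (hL : IsLieTypeChar 2 G) {s : ℕ} (hs : s.Prime) (hs2 : s ≠ 2) (hsG : s ∣ Nat.card G) {g : G}
    (hg : (orderOf g).Prime) (h : H216.Pi.FC s 8 (MulAut.conj g : MulAut G)) : False := by
  by_cases hc : ¬ 2 ∣ Nat.card ↥(centralizer ({g} : Set G))
  · exact H955.PiG.false_of_regular Nat.prime_two hL hs hsG (k := 1) (H216.Pi.InC.self _) hc (by norm_num)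
      (fun e => absurd e hs2) h
  · rw [not_not] at hc
    have : Fact (Nat.Prime 2) := ⟨Nat.prime_two⟩
    obtain ⟨⟨t, htc⟩, ht⟩ := exists_prime_orderOf_dvd_card' 2 hc
    rw [Subgroup.orderOf_mk] at ht
    have ht2 : t * t = 1 := by rw [← pow_two, ← ht, pow_orderOf_eq_one]
    have ht1 : t ≠ 1 := by
      rintro rfl
      rw [orderOf_one] at ht
      omega
    have h8 : 8 ≤ Nat.card F := by
      rw [hFc]
      calc 8 = 2 ^ 3 := rfl
        _ ≤ 2 ^ (2 * m + 1) := Nat.pow_le_pow_right (by norm_num) (by omega)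
    obtain ⟨x, y, hx, hy, hxy⟩ := exists_reg S hm hFc hR (gow_of_lie (lie_L4 S (k := 2 * m + 1) (by omega) hFc))
      (gow_of_lie (lie_LO S (by omega))) hg ht2 ht1 (mem_centralizer_singleton_iff.1 htc).symm
    have h4 : H216.Pi.InC 4 (MulAut.conj g : MulAut G) (MulAut.conj (x * y)) := by
      rw [map_mul]
      exact (inC_two hx).mul (inC_two hy)
    exact H955.PiG.false_of_regular Nat.prime_two hL hs hsG (k := 4) h4 hxy (by norm_num)
      (fun e => absurd e hs2) h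

end sys

section model

open Cfsg.Lie
open Cfsg.Agent.ChevalleyStructure.TwF4.TwistedFix (exists_rln Rln)

theorem isLie {K : Type} [Field K] [Fintype K] {m : ℕ} (hm : 1 ≤ m) (hK : Fintype.card K = 2 ^ (2 * m + 1)) :
    IsLieTypeChar 2 ↥(twistedF4 K (2 ^ m)) :=
  Or.inr (Or.inr (Or.inr (Or.inr (Or.inr (Or.inr (Or.inr (Or.inr (Or.inr (Or.inl ⟨rfl, K, _, _, m, hm, hK,
    ⟨MulEquiv.refl _⟩⟩)))))))))

/-- **inner automorphisms of prime order of `²F₄(q)`** -/
theorem inner_false {K : Type} [Field K] [Fintype K] {m : ℕ} (hm : 1 ≤ m) (hK : Fintype.card K = 2 ^ (2 * m + 1))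
    {s : ℕ} (hs : s.Prime) (hs2 : s ≠ 2) (hsG : s ∣ Nat.card ↥(twistedF4 K (2 ^ m))) {g : ↥(twistedF4 K (2 ^ m))}
    (hg : (orderOf g).Prime) (h : H216.Pi.FC s 8 (MulAut.conj g : MulAut ↥(twistedF4 K (2 ^ m)))) : False := by
  have hcK : CharP K 2 := Cfsg.Agent.ChevalleyStructure.TwF4.Twisted.charP_two hK
  have h2 : Fact (Nat.Prime 2) := ⟨Nat.prime_two⟩
  have hpK : PerfectRing K 2 := inferInstance
  obtain ⟨φ, hφ⟩ := exists_rln hK
  exact inner_false_sys (Cfsg.Agent.KFacts.TwF4.Inst.full hK hφ) hm (by rw [Nat.card_eq_fintype_card, hK]) rfl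
    (isLie hm hK) hs hs2 hsG hg h

end model

end Cfsg.Agent.H326.TF
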