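import Cfsg.Agent.H326.TF.Inner
import Cfsg.Agent.KFacts.TwF4.OutTwo

/-!
# S4324, row of `²F₄(q)`, `q ≥ 8`, from the outer automorphisms (helper326)

* `OuterF` : the statement of the outer part;
* `tf4_false` : eight conjugates suffice;
* `nr_of`, `cy_of` : the predicates `NR`, `CY`.
-/

set_option autoImplicit false

namespace Cfsg.Agent.H326.TF

open Subgroup Cfsg Cfsg.Lie
open Cfsg.Agent.ChevalleyStructure.TwF4.TwistedFix (exists_rln Rln)

/-- the statement for outer automorphisms of odd prime order -/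
def OuterF : Prop :=
  ∀ (K : Type) [Field K] [Fintype K] (m : ℕ), 1 ≤ m → Fintype.card K = 2 ^ (2 * m + 1) → ∀ p s : ℕ, p.Prime → p ≠ 2 →
    s.Prime → s ∣ Nat.card ↥(twistedF4 K (2 ^ m)) → ∀ x : MulAut ↥(twistedF4 K (2 ^ m)), orderOf x = p →
    (¬ ∃ g, x = MulAut.conj g) → H216.Pi.FC s 8 x → False

theorem model_false (hO : OuterF) {K : Type} [Field K] [Fintype K] {m : ℕ} (hm : 1 ≤ m)
    (hK : Fintype.card K = 2 ^ (2 * m + 1)) {s : ℕ} (hs : s.Prime) (hs2 : s ≠ 2)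
    (hsG : s ∣ Nat.card ↥(twistedF4 K (2 ^ m))) {x : MulAut ↥(twistedF4 K (2 ^ m))} (hx : (orderOf x).Prime)
    (h : H216.Pi.FC s 8 x) : False := by
  by_cases hin : ∃ g, x = MulAut.conj g
  · obtain ⟨g, rfl⟩ := hin
    have : IsSimpleGroup ↥(twistedF4 K (2 ^ m)) := H400.LieSimple.isSimple_of_lie (isLie hm hK)
    rw [H955.PiG.orderOf_conj (H955.PiG.center_bot Nat.prime_two (isLie hm hK))] at hx
    exact inner_false hm hK hs hs2 hsG hx h
  · refine hO K m hm hK (orderOf x) s hx ?_ hs hsG x rfl hin h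
    intro h2
    apply hin
    have hcK : CharP K 2 := Cfsg.Agent.ChevalleyStructure.TwF4.Twisted.charP_two hK
    have hp2 : Fact (Nat.Prime 2) := ⟨Nat.prime_two⟩
    have hpK : PerfectRing K 2 := inferInstance
    obtain ⟨φ, hφ⟩ := exists_rln hK
    have hFc : Nat.card K = 2 ^ (2 * m + 1) := by rw [Nat.card_eq_fintype_card, hK]
    have hx2 : x ^ 2 ^ 1 = 1 := orderOf_dvd_iff_pow_eq_one.1 (by rw [h2, pow_one])
    exact Cfsg.Agent.KFacts.TwF4.OutTwo.inner (Cfsg.Agent.KFacts.TwF4.Inst.full hK hφ) hFc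
      (H240.BalTwF.unit_of_card hm hFc) rfl hx2

/-- **Eight conjugates of an automorphism of prime order of `²F₄(q)` generate a group of order divisible by `s`.** -/
theorem tf4_false (hO : OuterF) {K : Type} [Group K] [Finite K] (h : Lie.Iso2F4 K) {s : ℕ} (hs : s.Prime) (hs2 : s ≠ 2)
    (hsK : s ∣ Nat.card K) {x : MulAut K} (hx : (orderOf x).Prime) (h8 : H216.Pi.FC s 8 x) : False := by
  obtain ⟨F, i1, i2, m, hm, hF, ⟨e⟩⟩ := h
  refine model_false hO hm hF hs hs2 (by rwa [← Nat.card_congr e.toEquiv]) (x := H459.Rad.tr e x) ?_ (h8.tr e)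
  rwa [H459.Rad.orderOf_tr]

theorem eight_le (r : ℕ) : 8 ≤ H216.Pi.mm r := le_trans (by norm_num) (H216.Pi.mm_ge r)

theorem nr_of (hO : OuterF) {K : Type} [Group K] [Finite K] (h : Lie.Iso2F4 K) : H216.Pi.NR 2 K :=
  fun _ r _ hs _ _ _ _ hst hsK _ hx _ _ _ hFC => tf4_false hO h hs hst hsK hx (hFC.mono (eight_le r))

theorem cy_of (hO : OuterF) {K : Type} [Group K] [Finite K] (h : Lie.Iso2F4 K) : H216.Pi.CY 2 K :=
  fun _ r _ hs _ _ _ _ hst hsK _ hx _ _ _ hFC => tf4_false hO h hs hst hsK hx (hFC.mono (eight_le r))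

end Cfsg.Agent.H326.TF
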